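import Cfsg.Agent.H145.BR.RowZ
import Cfsg.Agent.H940.RatB.Count
import Cfsg.Agent.H687.Gen

/-!
# The integer valued row from a permutation character (helper583, task 4558)

* `exists_fixed` : if `p` divides the index of `H` and the `p`-group `A` of automorphisms preserves the multiplicities
  of the permutation character on the cosets of `H`, then there is an `A`-invariant nontrivial constituent of degree
  prime to `p` in the principal `p`-block;
* `rowZ_of_dvd` : the criterion for `RowZ`.
-/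

set_option autoImplicit false
set_option linter.unusedSectionVars false

open Cfsg
open scoped ComplexConjugate

namespace Cfsg.Agent.H583.BR

open Cfsg.Agent.Characters.Core Cfsg.Agent.Blocks.Local Cfsg.Agent.H139.RealB0.Crit Cfsg.Agent.H145.BR
open Cfsg.Agent.H940.RatB

universe u

attribute [local instance] Cfsg.Agent.H687.autAct

variable {S : Type u} [Group S] [Finite S]

theorem exists_fixed {p : ℕ} [hpp : Fact p.Prime] {M : Ideal AlgInt} (hM : IsPModular p M) (H : Subgroup S)
    [Fintype H] (hp : p ∣ H.index) (A : Subgroup (MulAut S)) (hA : IsPGroup p A)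
    (hinv : ∀ a ∈ A, ∀ χ : IrrCharacter S, ∑ h : H, (χ : S → ℂ) (a h) = ∑ h : H, (χ : S → ℂ) h) :
    ∃ χ : IrrCharacter S, χ ∈ principalBlock M S ∧ ¬ p ∣ charDegree (χ : S → ℂ) ∧
      ((χ : S → ℂ) ≠ fun _ => (1 : ℂ)) ∧ ∑ h : H, (χ : S → ℂ) h ≠ 0 ∧
      ∀ a ∈ A, ∀ x : S, (χ : S → ℂ) (a x) = (χ : S → ℂ) x := by
  classical
  by_contra hcon
  push Not at hcon
  have hMp : M.IsPrime := isPrime_of_isPModular hM
  have hB : IsPBlock M (principalBlock M S) := ⟨⟨_, isIrr_one⟩, rfl⟩
  have hfin : Finite (IrrCharacter S) := finite_irr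
  have hft : Fintype (IrrCharacter S) := Fintype.ofFinite _
  set one : IrrCharacter S := ⟨fun _ => 1, isIrr_one⟩ with hone
  have hmem : one ∈ principalBlock M S := Cfsg.Agent.Blocks.Basic.sameBlock_refl _
  -- the multiplicities
  have hmult : ∀ χ : IrrCharacter S, ∃ k : ℕ, (Nat.card H : ℂ)⁻¹ * ∑ h : H, conj ((χ : S → ℂ) h) = k := by
    intro χ
    have hS : Fintype S := Fintype.ofFinite S
    obtain ⟨k, hk⟩ := classInner_isNat (isCharacter_one (G := H)) (isCharacter_comp H.subtype (isIrr_isCharacter χ.2))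
    refine ⟨k, ?_⟩
    rw [← hk, classInner_def]
    congr 1
    refine Finset.sum_congr rfl fun h _ => ?_
    show conj ((χ : S → ℂ) h) = 1 * conj ((χ : S → ℂ) h)
    rw [one_mul]
  choose k hk using hmult
  have hH0 : (Nat.card H : ℂ) ≠ 0 := by exact_mod_cast Nat.card_pos.ne'
  have h1 : MemLocalRing M (∑ h : H, blockCoeff (principalBlock M S) (h : S)) :=
    memLocalRing_sum fun h _ => Cfsg.Agent.Blocks.Osima.memLocalRing_blockCoeff hM hB _
  let T : ℕ := ∑ χ : IrrCharacter S, if χ ∈ principalBlock M S then charDegree (χ : S → ℂ) * k χ else 0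
  have h2 : ∑ h : H, blockCoeff (principalBlock M S) (h : S) = (H.index : ℂ)⁻¹ * (T : ℂ) := by
    have h3 : ∀ h : H, blockCoeff (principalBlock M S) (h : S) = (Nat.card S : ℂ)⁻¹ *
        ∑ χ : IrrCharacter S, if χ ∈ principalBlock M S then (χ : S → ℂ) 1 * conj ((χ : S → ℂ) h) else 0 :=
      fun h => Cfsg.Agent.Blocks.Osima.blockCoeff_eq_sum _ _
    rw [Finset.sum_congr rfl fun h _ => h3 h, ← Finset.mul_sum, Finset.sum_comm]
    have h4 : ∀ χ : IrrCharacter S, (∑ h : H, if χ ∈ principalBlock M S then (χ : S → ℂ) 1 * conj ((χ : S → ℂ) h) else 0) =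
        (Nat.card H : ℂ) * (((if χ ∈ principalBlock M S then charDegree (χ : S → ℂ) * k χ else 0 : ℕ)) : ℂ) := by
      intro χ
      by_cases hχB : χ ∈ principalBlock M S
      · simp only [if_pos hχB]
        rw [← Finset.mul_sum, Nat.cast_mul, ← hk, charDegree_cast]
        field_simp
      · simp only [if_neg hχB]
        rw [Finset.sum_const_zero, Nat.cast_zero, mul_zero]
    rw [Finset.sum_congr rfl fun χ _ => h4 χ, ← Finset.mul_sum, ← Nat.cast_sum, ← mul_assoc]
    congr 1
    have h5 : (Nat.card S : ℂ) = (H.index : ℂ) * (Nat.card H : ℂ) := by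
      rw [← Subgroup.index_mul_card H, Nat.cast_mul]
    rw [h5, mul_inv, mul_assoc, inv_mul_cancel₀ hH0, mul_one]
  rw [h2] at h1
  have h3 : MemLocalIdeal M (H.index : ℂ) := (memLocalIdeal_natCast_iff hM _).2 hp
  have h4 := memLocalIdeal_mul_left h1 h3
  have h5 : (H.index : ℂ) ≠ 0 := by exact_mod_cast Subgroup.index_ne_zero_of_finite
  have h6 : (H.index : ℂ)⁻¹ * (T : ℂ) * (H.index : ℂ) = (T : ℂ) := by field_simp
  rw [h6] at h4
  have h7 : p ∣ T := (memLocalIdeal_natCast_iff hM _).1 h4
  -- the action of `A`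
  let _ : MulAction A (IrrCharacter S) := MulAction.compHom _ A.subtype
  have hact : ∀ (φ : A) (χ : IrrCharacter S), φ • χ = (φ : MulAut S) • χ := fun _ _ => rfl
  have happ : ∀ (φ : MulAut S) (χ : IrrCharacter S) (s : S),
      ((φ • χ : IrrCharacter S) : S → ℂ) s = (χ : S → ℂ) ((φ⁻¹ : MulAut S) s) := fun _ _ _ => rfl
  obtain ⟨F, hF⟩ : ∃ F : IrrCharacter S → ℂ, ∀ χ, F χ =
      ((if χ ∈ principalBlock M S then charDegree (χ : S → ℂ) * k χ else 0 : ℕ) : ℂ) := ⟨_, fun _ => rfl⟩
  have hsum : ∑ χ, F χ = (T : ℂ) := by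
    rw [Finset.sum_congr rfl fun χ _ => hF χ, ← Nat.cast_sum]
  have hint : ∀ χ, IsIntegral ℤ (F χ) := by
    intro χ
    rw [hF]
    exact isIntegral_natCast _
  have hk' : ∀ (φ : A) (χ : IrrCharacter S), k (φ • χ) = k χ := by
    intro φ χ
    have e1 := hk (φ • χ)
    have e2 := hk χ
    have e3 : ∑ h : H, conj (((φ • χ : IrrCharacter S) : S → ℂ) h) = ∑ h : H, conj ((χ : S → ℂ) h) := by
      rw [← map_sum, ← map_sum]
      congr 1
      rw [← hinv _ (inv_mem φ.2) χ]
      exact Finset.sum_congr rfl fun h _ => happ _ _ _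
    rw [e3, e2] at e1
    exact_mod_cast e1.symm
  have hdeg : ∀ (φ : A) (χ : IrrCharacter S), charDegree ((φ • χ : IrrCharacter S) : S → ℂ) = charDegree (χ : S → ℂ) := by
    intro φ χ
    unfold charDegree
    rw [hact, happ, map_one]
  have hFinv : ∀ (φ : A) (χ : IrrCharacter S), F (φ • χ) = F χ := by
    intro φ χ
    rw [hF, hF, hk', hdeg]
    simp only [hact, Cfsg.Agent.H687.smul_mem_principalBlock]
  obtain ⟨z, hz, hsum2⟩ := Cfsg.Agent.H687.sum_fixed (p := p) hA F hFinv hint
  rw [hsum] at hsum2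
  -- the fixed points
  have hfix : ∀ χ : IrrCharacter S, χ ∈ MulAction.fixedPoints A (IrrCharacter S) →
      ∀ a ∈ A, ∀ x : S, (χ : S → ℂ) (a x) = (χ : S → ℂ) x := by
    intro χ hχ a ha x
    have e1 := hχ ⟨a⁻¹, inv_mem ha⟩
    have e2 := congrFun (congrArg Subtype.val e1) x
    rw [hact] at e2
    have e3 : (χ : S → ℂ) ((a⁻¹⁻¹ : MulAut S) x) = (χ : S → ℂ) x := e2
    rwa [inv_inv] at e3
  have hone1 : one ∈ MulAction.fixedPoints A (IrrCharacter S) := by
    intro φ
    apply Subtype.ext
    funext s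
    rw [hact]
    rfl
  have hFone : F one = 1 := by
    rw [hF, if_pos hmem]
    have h9 : charDegree (one : S → ℂ) = 1 := by
      have := charDegree_cast one
      have h10 : (one : S → ℂ) 1 = 1 := rfl
      rw [h10] at this
      exact_mod_cast this.symm
    have h10 : k one = 1 := by
      have h11 := hk one
      have h12 : ∑ h : H, conj ((one : S → ℂ) h) = (Nat.card H : ℂ) := by
        have : ∀ h : H, conj ((one : S → ℂ) h) = 1 := fun h => map_one _
        rw [Finset.sum_congr rfl fun h _ => this h, Finset.sum_const, Finset.card_univ, nsmul_eq_mul, mul_one,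
          ← Nat.card_eq_fintype_card]
      rw [h12, inv_mul_cancel₀ hH0] at h11
      exact_mod_cast h11.symm
    rw [h9, h10]
    norm_num
  have h9 : ∃ w : ℕ, (∑ χ, if χ ∈ MulAction.fixedPoints A (IrrCharacter S) then F χ else 0) = 1 + (p : ℂ) * w := by
    have h10 : ∀ χ : IrrCharacter S, χ ≠ one → ∃ w : ℕ,
        (if χ ∈ MulAction.fixedPoints A (IrrCharacter S) then F χ else 0) = (p : ℂ) * w := by
      intro χ hne
      by_cases hχ : χ ∈ MulAction.fixedPoints A (IrrCharacter S)
      · rw [if_pos hχ, hF]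
        by_cases hχB : χ ∈ principalBlock M S
        · rw [if_pos hχB]
          by_cases hd : p ∣ charDegree (χ : S → ℂ)
          · obtain ⟨c, hc⟩ := hd
            refine ⟨c * k χ, ?_⟩
            rw [hc]
            push_cast
            ring
          · by_cases hs : ∑ h : H, (χ : S → ℂ) h = 0
            · have h11 : k χ = 0 := by
                have h12 := hk χ
                rw [← map_sum, hs, map_zero, mul_zero] at h12
                exact_mod_cast h12.symm
              exact ⟨0, by rw [h11]; simp⟩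
            · obtain ⟨a, ha, x, hx⟩ := hcon χ hχB hd (fun h => hne (Subtype.ext h)) hs
              exact absurd (hfix χ hχ a ha x) hx
        · rw [if_neg hχB]
          exact ⟨0, by simp⟩
      · rw [if_neg hχ]
        exact ⟨0, by simp⟩
    have h11 : ∀ χ : IrrCharacter S, ∃ w : ℕ, χ ≠ one →
        (if χ ∈ MulAction.fixedPoints A (IrrCharacter S) then F χ else 0) = (p : ℂ) * w := by
      intro χ
      by_cases hne : χ = one
      · exact ⟨0, fun h => absurd hne h⟩
      · obtain ⟨w, hw⟩ := h10 χ hne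
        exact ⟨w, fun _ => hw⟩
    choose w hw using h11
    refine ⟨∑ χ ∈ Finset.univ.erase one, w χ, ?_⟩
    rw [← Finset.add_sum_erase Finset.univ _ (Finset.mem_univ one), if_pos hone1, hFone]
    congr 1
    rw [Nat.cast_sum, Finset.mul_sum]
    exact Finset.sum_congr rfl fun χ hχ => hw χ (Finset.mem_erase.1 hχ).1
  obtain ⟨w, hw⟩ := h9
  obtain ⟨t, ht⟩ := h7
  refine Cfsg.Agent.H687.not_isIntegral_inv (p := p) hpp.out.two_le (z := z + w - t)
    ((hz.add (isIntegral_natCast _)).sub (isIntegral_natCast _)) ?_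
  have h12 : (T : ℂ) = (p : ℂ) * t := by rw [ht]; push_cast; ring
  rw [h12, hw] at hsum2
  linear_combination -hsum2

/-- **The criterion**: `p` divides the index of `H`, the automorphisms of `p`-power order map `H` to conjugates of
`H`, and all constituents of the permutation character are integer valued. -/
theorem rowZ_of_dvd {p : ℕ} [hpp : Fact p.Prime] (H : Subgroup S) (hp : p ∣ H.index)
    (hconj : ∀ a : MulAut S, (∃ k, orderOf a = p ^ k) → ∃ g : S, ∀ h ∈ H, ∃ h' ∈ H, a h = g * h' * g⁻¹)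
    (hZ : ∀ [Fintype S] (χ : IrrCharacter S), classInner (fixedPointCharacter H) (χ : S → ℂ) ≠ 0 →
      ∀ g, ∃ k : ℤ, (χ : S → ℂ) g = k) : RowZ p S := by
  classical
  intro A hA M hM
  have hS : Fintype S := Fintype.ofFinite S
  have hH : Fintype H := Fintype.ofFinite H
  have hinv : ∀ a ∈ A, ∀ χ : IrrCharacter S, ∑ h : H, (χ : S → ℂ) (a h) = ∑ h : H, (χ : S → ℂ) h := by
    intro a ha χ
    obtain ⟨k, hk⟩ := (IsPGroup.iff_orderOf.1 hA) ⟨a, ha⟩
    obtain ⟨g, hg⟩ := hconj a ⟨k, by rw [← hk, Subgroup.orderOf_mk]⟩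
    choose f hf1 hf2 using hg
    have hinj : Function.Injective (fun h : H => (⟨f h h.2, hf1 h h.2⟩ : H)) := by
      intro x y hxy
      have e : f x x.2 = f y y.2 := congrArg Subtype.val hxy
      apply Subtype.ext
      apply a.injective
      rw [hf2 x x.2, hf2 y y.2, e]
    have hbij : Function.Bijective (fun h : H => (⟨f h h.2, hf1 h h.2⟩ : H)) := Finite.injective_iff_bijective.1 hinj
    rw [← Function.Bijective.sum_comp hbij (fun h : H => (χ : S → ℂ) h)]
    refine Finset.sum_congr rfl fun h _ => ?_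
    rw [hf2 h h.2]
    exact isIrr_isClassFunction χ.2 _ _
  obtain ⟨χ, h1, h2, h3, h4, h5⟩ := exists_fixed hM H hp A hA hinv
  refine ⟨χ, h1, h3, h2, hZ χ ?_, h5⟩
  rw [classInner_fixedPointCharacter, ← map_sum]
  refine mul_ne_zero (inv_ne_zero (by exact_mod_cast Nat.card_pos.ne')) ?_
  rw [map_ne_zero]
  exact h4

end Cfsg.Agent.H583.BR
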