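import Cfsg.Agent.H583.BR.AltSets
import Cfsg.Agent.H583.BR.PslY
import Cfsg.Agent.S2119
import Cfsg.Agent.S4551
import Cfsg.Agent.StdAlt.Six.AutLemmas

/-!
# The integer valued row for the alternating groups, `p` odd (helper583)
-/

set_option autoImplicit false
set_option linter.unusedSectionVars false

namespace Cfsg.Agent.H583.BR.Alt

open Cfsg Finset Equiv Equiv.Perm
open Cfsg.Agent.Characters.Core
open Cfsg.Agent.H145.BR Cfsg.Agent.H139.RealB0.Crit

variable {n : ℕ}

/-! ### automorphisms of odd order are inner -/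

theorem sq_range {α : MulAut (alternatingGroup (Fin n))} (h : ∃ σ : Perm (Fin n),
    ∀ x : alternatingGroup (Fin n), (α x : Perm (Fin n)) = σ * x * σ⁻¹) :
    α * α ∈ (MulAut.conj : alternatingGroup (Fin n) →* MulAut (alternatingGroup (Fin n))).range := by
  obtain ⟨σ, hσ⟩ := h
  have hs : σ * σ ∈ alternatingGroup (Fin n) := by
    rw [Perm.mem_alternatingGroup, map_mul]
    rcases Int.units_eq_one_or (Perm.sign σ) with h | h <;> rw [h] <;> decide
  refine ⟨⟨σ * σ, hs⟩, ?_⟩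
  apply MulEquiv.ext
  intro x
  apply Subtype.ext
  rw [MulAut.mul_apply, hσ, hσ, MulAut.conj_apply]
  push_cast
  group

theorem pow_range (hn : 5 ≤ n) (α : MulAut (alternatingGroup (Fin n))) :
    ∃ k : ℕ, α ^ 2 ^ k ∈ (MulAut.conj : alternatingGroup (Fin n) →* MulAut (alternatingGroup (Fin n))).range := by
  by_cases h6 : n = 6
  · subst h6
    refine ⟨2, ?_⟩
    have h1 : StdAlt.Six.NS (α * α) := by
      by_cases h : StdAlt.Six.NS α
      · exact h.mul h
      · exact StdAlt.Six.NS.mul_of_not h h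
    have h2 := sq_range h1
    have e : α ^ 2 ^ 2 = α * α * (α * α) := by
      rw [show (2 ^ 2 : ℕ) = 2 + 2 by norm_num, pow_add, pow_two]
    rw [e]
    exact h2
  · refine ⟨1, ?_⟩
    obtain ⟨s, hs⟩ := (S2119.result n (by omega) h6).2 α
    rw [pow_one, pow_two]
    exact sq_range ⟨s, fun x => by rw [← hs, MulAut.conjNormal_apply]⟩

theorem inner_of_odd {p : ℕ} (hp : p.Prime) (hp2 : p ≠ 2) (hn : 5 ≤ n) {α : MulAut (alternatingGroup (Fin n))}
    {k : ℕ} (hα : α ^ p ^ k = 1) : ∃ b, MulAut.conj b = α := by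
  obtain ⟨j, hj⟩ := pow_range hn α
  have hcop : IsCoprime ((2 ^ j : ℕ) : ℤ) ((p ^ k : ℕ) : ℤ) := by
    rw [Nat.isCoprime_iff_coprime]
    apply Nat.Coprime.pow
    rw [Nat.coprime_primes Nat.prime_two hp]
    exact hp2.symm
  obtain ⟨u, v, huv⟩ := hcop
  have h1 : α = (α ^ 2 ^ j) ^ u := by
    calc α = α ^ (u * ((2 ^ j : ℕ) : ℤ) + v * ((p ^ k : ℕ) : ℤ)) := by rw [huv, zpow_one]
      _ = (α ^ 2 ^ j) ^ u := by
        rw [zpow_add, mul_comm u, mul_comm v, zpow_mul, zpow_mul, zpow_natCast, zpow_natCast, hα, one_zpow, mul_one]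
  have h2 : α ∈ (MulAut.conj : alternatingGroup (Fin n) →* MulAut (alternatingGroup (Fin n))).range := by
    rw [h1]
    exact zpow_mem hj u
  exact h2

/-! ### the principal block when `n mod p ≥ 2` -/

theorem int_perm {χ : Perm (Fin n) → ℂ} (hχ : IsIrrCharacter (Perm (Fin n)) χ) (g : Perm (Fin n)) :
    ∃ z : ℤ, χ g = z := by
  obtain ⟨β, -, hs, e⟩ := H614.irr_eq (α := Fin n) (m := n) (by rw [Fintype.card_fin]) hχ
  rw [e, H614.ch_apply]
  exact ⟨_, rfl⟩

theorem sup_centralizer {p : ℕ} [Fact p.Prime] (h2 : 2 ≤ n % p) (P : Sylow p (Perm (Fin n))) :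
    alternatingGroup (Fin n) ⊔ Subgroup.centralizer ((P : Subgroup (Perm (Fin n))) : Set (Perm (Fin n))) = ⊤ := by
  have h1 := IsPGroup.card_modEq_card_fixedPoints (G := (P : Subgroup (Perm (Fin n)))) P.2 (Fin n)
  rw [Nat.card_eq_fintype_card, Fintype.card_fin] at h1
  have h3 : 2 ≤ Nat.card (MulAction.fixedPoints (P : Subgroup (Perm (Fin n))) (Fin n)) := by
    have h4 : n % p = Nat.card (MulAction.fixedPoints (P : Subgroup (Perm (Fin n))) (Fin n)) % p := h1
    have h5 := Nat.mod_le (Nat.card (MulAction.fixedPoints (P : Subgroup (Perm (Fin n))) (Fin n))) p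
    omega
  have h4 : Nontrivial (MulAction.fixedPoints (P : Subgroup (Perm (Fin n))) (Fin n)) :=
    Finite.one_lt_card_iff_nontrivial.1 (by omega)
  obtain ⟨⟨i, hi⟩, ⟨j, hj⟩, hij⟩ := h4
  have hne : i ≠ j := fun h => hij (Subtype.ext h)
  have ht : swap i j ∈ Subgroup.centralizer ((P : Subgroup (Perm (Fin n))) : Set (Perm (Fin n))) := by
    rw [Subgroup.mem_centralizer_iff]
    intro g hg
    have e1 : g i = i := hi ⟨g, hg⟩
    have e2 : g j = j := hj ⟨g, hg⟩
    have h5 := Equiv.mul_swap_eq_swap_mul g i j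
    rw [e1, e2] at h5
    exact h5
  rw [eq_top_iff]
  intro g _
  rcases Int.units_eq_one_or (sign g) with hs | hs
  · exact Subgroup.mem_sup_left (mem_alternatingGroup.2 hs)
  · have e : g = (g * swap i j) * swap i j := by rw [mul_assoc, swap_mul_self, mul_one]
    rw [e]
    refine Subgroup.mul_mem_sup (mem_alternatingGroup.2 ?_) ht
    rw [map_mul, hs, sign_swap hne]
    decide

theorem int_of_two_le {p : ℕ} [hp : Fact p.Prime] (hp2 : p ≠ 2) (hn : 5 ≤ n) (h2 : 2 ≤ n % p) {M : Ideal AlgInt}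
    (hM : IsPModular p M) {θ : IrrCharacter (alternatingGroup (Fin n))}
    (hθ : θ ∈ principalBlock M (alternatingGroup (Fin n))) (g : alternatingGroup (Fin n)) :
    ∃ z : ℤ, (θ : alternatingGroup (Fin n) → ℂ) g = z := by
  obtain ⟨P⟩ : Nonempty (Sylow p (Perm (Fin n))) := inferInstance
  have hnt : Nontrivial (Fin n) := Fin.nontrivial_iff_two_le.2 (by omega)
  have hidx : ¬ p ∣ (alternatingGroup (Fin n)).index := by
    rw [alternatingGroup.index_eq_two]
    intro h
    exact hp2 ((Nat.prime_dvd_prime_iff_eq hp.out Nat.prime_two).1 h)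
  obtain ⟨χ, ⟨-, hχ⟩, -⟩ := (S4551.result p M hM (alternatingGroup (Fin n)) hidx P (sup_centralizer h2 P)).2 θ hθ
  obtain ⟨z, hz⟩ := int_perm χ.2 (g : Perm (Fin n))
  exact ⟨z, by rw [← hχ, hz]⟩

/-! ### the row -/

theorem rowZ_alt {p : ℕ} [hp : Fact p.Prime] (hp2 : p ≠ 2) (hn : 5 ≤ n)
    (hd : p ∣ Nat.card (alternatingGroup (Fin n))) : RowZ p (alternatingGroup (Fin n)) := by
  classical
  intro A hA M hM
  -- the subgroup
  obtain ⟨H, hH, hZ⟩ : ∃ H : Subgroup (alternatingGroup (Fin n)), p ∣ H.index ∧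
      ∀ θ : IrrCharacter (alternatingGroup (Fin n)), θ ∈ principalBlock M (alternatingGroup (Fin n)) →
        classInner (fixedPointCharacter H) (θ : alternatingGroup (Fin n) → ℂ) ≠ 0 →
        ∀ g, ∃ z : ℤ, (θ : alternatingGroup (Fin n) → ℂ) g = z := by
    by_cases h2 : 2 ≤ n % p
    · exact ⟨⊥, by rw [Subgroup.index_bot]; exact hd, fun θ hθ _ g => int_of_two_le hp2 hn h2 hM hθ g⟩
    · refine ⟨St (fst n 2), ?_, fun θ _ hθ => isInt_of_sets hn (by omega) θ.2 hθ⟩
      rw [index_St hn (by omega)]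
      have h3 : p ∣ n * (n - 1) := by
        rcases Nat.lt_or_ge (n % p) 1 with h | h
        · exact Dvd.dvd.mul_right (Nat.dvd_of_mod_eq_zero (by omega)) _
        · apply Dvd.dvd.mul_left
          have h4 : n % p = 1 := by omega
          have h5 := Nat.div_add_mod n p
          rw [h4] at h5
          exact ⟨n / p, by omega⟩
      have h4 : n * (n - 1) = n.choose 2 * 2 := by
        rw [Nat.choose_two_right, Nat.div_mul_cancel]
        exact (Nat.even_mul_pred_self n).two_dvd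
      rw [h4] at h3
      rcases (hp.out.dvd_mul).1 h3 with h5 | h5
      · exact h5
      · exact absurd ((Nat.prime_dvd_prime_iff_eq hp.out Nat.prime_two).1 h5) hp2
  have hHf : Fintype H := Fintype.ofFinite H
  have hinv : ∀ a ∈ A, ∀ χ : IrrCharacter (alternatingGroup (Fin n)),
      ∑ h : H, (χ : alternatingGroup (Fin n) → ℂ) (a h) = ∑ h : H, (χ : alternatingGroup (Fin n) → ℂ) h := by
    intro a ha χ
    obtain ⟨k, hk⟩ := hA ⟨a, ha⟩
    have hk' : a ^ p ^ k = 1 := congrArg Subtype.val hk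
    obtain ⟨b, hb⟩ := inner_of_odd hp.out hp2 hn hk'
    refine Finset.sum_congr rfl fun h _ => ?_
    rw [← hb, MulAut.conj_apply]
    exact isIrr_isClassFunction χ.2 _ _
  obtain ⟨χ, h1, h2, h3, h4, h5⟩ := exists_fixed hM H hH A hA hinv
  refine ⟨χ, h1, h3, h2, hZ χ h1 ?_, h5⟩
  rw [classInner_fixedPointCharacter, ← map_sum]
  refine mul_ne_zero (inv_ne_zero (by exact_mod_cast Nat.card_pos.ne')) ?_
  rw [map_ne_zero]
  exact h4

/-- **the row ALT** -/
theorem rowForZ_alt (p : ℕ) [Fact p.Prime] (hp2 : p ≠ 2) : RowForZ p (fun X _ => IsAlternating X) := by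
  intro X _ _ _ _ hd ⟨n, hn, ⟨e⟩⟩
  rw [Nat.card_congr e.toEquiv] at hd
  exact RowZ.congr e (rowZ_alt hp2 hn hd)

end Cfsg.Agent.H583.BR.Alt
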