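import Cfsg.Agent.H583.BR.Flag
import Cfsg.Agent.ClassicalGeometry.AutPSL.SylowU

/-!
# The Borel subgroup of `PSL_n(q)` (helper583, task 4558)

* `bor` : the image of the upper triangular matrices;
* `mem_bor_of_normalizes` : it is the normalizer of a Sylow subgroup in the defining characteristic;
* `exists_conj_bor` : automorphisms map it to conjugates;
* `dvd_index_bor` : the primes not dividing `q (q - 1)` which divide the order divide its index.
-/

set_option autoImplicit false
set_option linter.unusedSectionVars false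

namespace Cfsg.Agent.H583.BR

open scoped MatrixGroups
open Matrix Finset Cfsg
open Cfsg.Agent.H139.Bruhat Cfsg.Agent.H139.Young Cfsg.Agent.H139.BlockCount Cfsg.Agent.H139.FlagInner
open Cfsg.Agent.ClassicalGeometry.AutPSL.Root Cfsg.Agent.ClassicalGeometry.AutPSL.SylowU

variable {F : Type*} [Field F] {n : ℕ}

/-- the Borel subgroup of `PSL_n` -/
def bor (n : ℕ) (F : Type*) [Field F] : Subgroup (ProjectiveSpecialLinearGroup (Fin n) F) := flg n F fun _ => 1

theorem compLabel_one (i : Fin n) : compLabel (fun _ : Fin n => 1) i = i.val := by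
  have h1 : ∀ j : Fin n, (∑ k ∈ Finset.univ.filter (fun k : Fin n => k ≤ j), (fun _ : Fin n => 1) k) = j.val + 1 := by
    intro j
    rw [Finset.sum_const, smul_eq_mul, mul_one]
    have : (Finset.univ.filter fun k : Fin n => k ≤ j) = Finset.Iic j := by
      ext k
      simp
    rw [this, Fin.card_Iic]
  have h2 : (Finset.univ.filter fun j : Fin n =>
      (∑ k ∈ Finset.univ.filter (fun k : Fin n => k ≤ j), (fun _ : Fin n => 1) k) ≤ i.val) = Finset.Iio i := by
    ext j
    rw [Finset.mem_filter, h1, Finset.mem_Iio, Fin.lt_def]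
    simp only [Finset.mem_univ, true_and]
    omega
  rw [compLabel, h2, Fin.card_Iio]

theorem mem_upperGL {g : GL (Fin n) F} : g ∈ parabolicGL n F (fun _ => 1) ↔
    ∀ i j : Fin n, j < i → (g : Matrix (Fin n) (Fin n) F) i j = 0 := by
  constructor
  · intro h i j hij
    apply h
    rw [compLabel_one, compLabel_one]
    exact hij
  · intro h i j hij
    rw [compLabel_one, compLabel_one] at hij
    exact h i j hij

theorem mem_slp_one {s : SpecialLinearGroup (Fin n) F} : s ∈ slp n F (fun _ => 1) ↔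
    ∀ i j : Fin n, j < i → (s : Matrix (Fin n) (Fin n) F) i j = 0 := by
  change SpecialLinearGroup.toGL s ∈ parabolicGL n F (fun _ => 1) ↔ _
  rw [mem_upperGL]
  rfl

theorem diag_mul_of_upper {A B : Matrix (Fin n) (Fin n) F} (hA : ∀ i j : Fin n, j < i → A i j = 0)
    (hB : ∀ i j : Fin n, j < i → B i j = 0) (i : Fin n) : (A * B) i i = A i i * B i i := by
  rw [Matrix.mul_apply, Finset.sum_eq_single i]
  · intro k _ hk
    rcases lt_or_gt_of_ne hk with h | h
    · rw [hA i k h, zero_mul]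
    · rw [hB k i h, mul_zero]
  · exact fun h => absurd (Finset.mem_univ _) h

section

variable [Fintype F]

theorem mem_upper_iff {s : SpecialLinearGroup (Fin n) F} : s ∈ upper n F ↔
    s ∈ slp n F (fun _ => 1) ∧ ∀ i, (s : Matrix (Fin n) (Fin n) F) i i = 1 := by
  rw [mem_upper, mem_slp_one]
  constructor
  · intro h
    refine ⟨fun i j hij => ?_, fun i => ?_⟩
    · rw [h i j hij.le, if_neg hij.ne']
    · rw [h i i le_rfl, if_pos rfl]
  · rintro ⟨h1, h2⟩ i j hij
    rcases hij.lt_or_eq with h | h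
    · rw [h1 i j h, if_neg h.ne']
    · rw [h, h2 i, if_pos rfl]

theorem conj_mem_upper {b u : SpecialLinearGroup (Fin n) F} (hb : b ∈ slp n F (fun _ => 1)) (hu : u ∈ upper n F) :
    b * u * b⁻¹ ∈ upper n F := by
  rw [mem_upper_iff] at hu ⊢
  refine ⟨mul_mem (mul_mem hb hu.1) (inv_mem hb), fun i => ?_⟩
  have h1 := mem_slp_one.1 hb
  have h2 := mem_slp_one.1 hu.1
  have h3 := mem_slp_one.1 (inv_mem hb)
  have h4 : ∀ i j : Fin n, j < i → ((b : Matrix (Fin n) (Fin n) F) * (u : Matrix (Fin n) (Fin n) F)) i j = 0 :=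
    fun i j hij => mem_slp_one.1 (mul_mem hb hu.1) i j hij
  have h5 : (b : Matrix (Fin n) (Fin n) F) * ((b⁻¹ : SpecialLinearGroup (Fin n) F) : Matrix (Fin n) (Fin n) F) = 1 := by
    rw [← Matrix.SpecialLinearGroup.coe_mul, mul_inv_cancel, Matrix.SpecialLinearGroup.coe_one]
  change ((b : Matrix (Fin n) (Fin n) F) * (u : Matrix (Fin n) (Fin n) F) *
    ((b⁻¹ : SpecialLinearGroup (Fin n) F) : Matrix (Fin n) (Fin n) F)) i i = 1
  rw [diag_mul_of_upper h4 h3, diag_mul_of_upper h1 h2, hu.2, mul_one, ← diag_mul_of_upper h1 h3, h5, one_apply_eq]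

theorem perm_eq_one_of_mono {σ : Equiv.Perm (Fin n)} (h : ∀ i j, i < j → σ i < σ j) : σ = 1 := by
  have h1 : StrictMono σ := fun i j hij => h i j hij
  have h2 : StrictMono (σ⁻¹ : Equiv.Perm (Fin n)) := by
    intro i j hij
    rcases lt_trichotomy (σ⁻¹ i) (σ⁻¹ j) with h3 | h3 | h3
    · exact h3
    · exact absurd ((σ⁻¹).injective h3) hij.ne
    · have h4 := h1 h3
      rw [perm_apply_inv, perm_apply_inv] at h4
      exact absurd h4 (not_lt.2 hij.le)
  ext i
  have e1 : i ≤ σ i := h1.le_apply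
  have e2 : σ i ≤ σ⁻¹ (σ i) := h2.le_apply
  rw [perm_inv_apply] at e2
  rw [le_antisymm e2 e1]
  rfl

/-- the Borel subgroup contains the normalizer of the unitriangular group -/
theorem mem_slp_of_normalizes {s : SpecialLinearGroup (Fin n) F}
    (h : ∀ u ∈ upper n F, pr (s * u * s⁻¹) ∈ (upper n F).map pr) : s ∈ slp n F (fun _ => 1) := by
  obtain ⟨b₁, hb₁, σ, b₂, hb₂, e⟩ := bruhat (SpecialLinearGroup.toGL s)
  have hb₁' := upper_le (fun _ => 1) hb₁
  have hb₂' := upper_le (fun _ => 1) hb₂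
  have key : ∀ i j : Fin n, i < j → σ i < σ j := by
    intro i j hij
    -- the transvection
    obtain ⟨t, ht⟩ : ∃ t : GL (Fin n) F, t = SpecialLinearGroup.toGL (SpecialLinearGroup.transvection hij.ne (1 : F)) :=
      ⟨_, rfl⟩
    have htc : (t : Matrix (Fin n) (Fin n) F) = 1 + single i j 1 := by rw [ht]; rfl
    have hdet : GeneralLinearGroup.det (b₂⁻¹ * t * b₂) = 1 := by
      rw [map_mul, map_mul, map_inv, ht, det_toGL, mul_one, inv_mul_cancel]
    obtain ⟨u, hu⟩ := exists_toGL hdet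
    have hu1 : u ∈ upper n F := by
      obtain ⟨B, hB⟩ : ∃ B : Matrix (Fin n) (Fin n) F, B = ((b₂⁻¹ : GL (Fin n) F) : Matrix (Fin n) (Fin n) F) :=
        ⟨_, rfl⟩
      obtain ⟨C, hC⟩ : ∃ C : Matrix (Fin n) (Fin n) F, C = (b₂ : Matrix (Fin n) (Fin n) F) := ⟨_, rfl⟩
      have hBC : B * C = 1 := by rw [hB, hC, ← Units.val_mul, inv_mul_cancel, Units.val_one]
      have hB' : ∀ x y : Fin n, y < x → B x y = 0 := by rw [hB]; exact mem_upperGL.1 (inv_mem hb₂')
      have hC' : ∀ x y : Fin n, y < x → C x y = 0 := by rw [hC]; exact mem_upperGL.1 hb₂'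
      have h1 : (u : Matrix (Fin n) (Fin n) F) = 1 + B * single i j 1 * C := by
        have h2 := congrArg (fun g : GL (Fin n) F => (g : Matrix (Fin n) (Fin n) F)) hu
        have h3 : (u : Matrix (Fin n) (Fin n) F) = ((b₂⁻¹ * t * b₂ : GL (Fin n) F) : Matrix (Fin n) (Fin n) F) := h2
        rw [h3, Units.val_mul, Units.val_mul, htc, ← hB, ← hC, mul_add, add_mul, mul_one, hBC]
      rw [mem_upper]
      intro r c hrc
      rw [h1, Matrix.add_apply, one_apply]
      have h2 : (B * single i j 1 * C : Matrix (Fin n) (Fin n) F) r c = 0 := by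
        have h3 : ∀ x y : Fin n, (B * single i j 1 : Matrix (Fin n) (Fin n) F) x y = if j = y then B x i else 0 := by
          intro x y
          by_cases hy : j = y
          · subst hy
            rw [if_pos rfl, mul_single_apply_same, mul_one]
          · rw [if_neg hy, mul_single_apply_of_ne _ _ _ _ _ (Ne.symm hy)]
        rw [Matrix.mul_apply]
        apply Finset.sum_eq_zero
        intro y _
        rw [h3]
        split_ifs with hy
        · subst hy
          by_cases h4 : i < r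
          · rw [hB' r i h4, zero_mul]
          · have h5 : c < j := lt_of_le_of_lt (hrc.trans (not_lt.1 h4)) hij
            rw [hC' j c h5, mul_zero]
        · rw [zero_mul]
      rw [h2, add_zero]
    obtain ⟨u', hu', e'⟩ := h u hu1
    have h1 : s * u * s⁻¹ ∈ slp n F (fun _ => 1) := by
      rw [← mem_flg]
      exact ⟨u', (mem_upper_iff.1 hu').1, e'⟩
    have h2 : SpecialLinearGroup.toGL (s * u * s⁻¹) ∈ parabolicGL n F (fun _ => 1) := h1
    have h3 : permGL F n σ * t * permGL F n σ⁻¹ ∈ parabolicGL n F (fun _ => 1) := by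
      have h4 : permGL F n σ * t * permGL F n σ⁻¹ = b₁⁻¹ * SpecialLinearGroup.toGL (s * u * s⁻¹) * b₁ := by
        have h5 : SpecialLinearGroup.toGL (s * u * s⁻¹) =
            (b₁ * permGL F n σ * b₂) * (b₂⁻¹ * t * b₂) * (b₁ * permGL F n σ * b₂)⁻¹ := by
          rw [map_mul, map_mul, map_inv, hu, e]
        rw [h5, map_inv]
        group
      rw [h4]
      exact mul_mem (mul_mem (inv_mem hb₁') h2) hb₁'
    by_contra hcon
    have hne : σ i ≠ σ j := fun h => hij.ne (σ.injective h)
    have hlt : σ j < σ i := lt_of_le_of_ne (not_lt.1 hcon) hne.symm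
    have h4 := mem_upperGL.1 h3 _ _ hlt
    have h5 : ∀ (M : Matrix (Fin n) (Fin n) F) (x y : Fin n),
        (M * ((permGL F n σ⁻¹ : GL (Fin n) F) : Matrix (Fin n) (Fin n) F)) x y = M x (σ⁻¹ y) := by
      intro M x y
      rw [coe_permGL, PEquiv.mul_toMatrix_toPEquiv]
      simp
    rw [Units.val_mul, h5, Units.val_mul, permGL_mul_apply, perm_inv_apply, perm_inv_apply, htc, Matrix.add_apply,
      one_apply_ne hij.ne, zero_add, single_apply_same] at h4
    exact one_ne_zero h4
  have h1 := perm_eq_one_of_mono key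
  rw [h1, map_one, mul_one] at e
  change SpecialLinearGroup.toGL s ∈ parabolicGL n F (fun _ => 1)
  rw [e]
  exact mul_mem hb₁' hb₂'

/-- **Automorphisms map the Borel subgroup to conjugates.** -/
theorem exists_conj_bor (r : ℕ) [Fact r.Prime] [CharP F r]
    (α : MulAut (ProjectiveSpecialLinearGroup (Fin n) F)) :
    ∃ g : ProjectiveSpecialLinearGroup (Fin n) F, ∀ h ∈ bor n F, ∃ h' ∈ bor n F, α h = g * h' * g⁻¹ := by
  obtain ⟨S, hS⟩ := exists_sylow (F := F) n r
  obtain ⟨g, hg⟩ := MulAction.exists_smul_eq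
    (Matrix.ProjectiveSpecialLinearGroup (Fin n) F) S (α • S)
  have hmem : ∀ x, α x ∈ ((α • S : Sylow r _) : Subgroup
      (Matrix.ProjectiveSpecialLinearGroup (Fin n) F)) ↔ x ∈ (S : Subgroup _) := by
    intro x
    rw [Sylow.pointwise_smul_def, Subgroup.mem_pointwise_smul_iff_inv_smul_mem]
    have : α⁻¹ • α x = x := α.symm_apply_apply x
    rw [this]
  have hmem' : ∀ x, g * x * g⁻¹ ∈ ((g • S : Sylow r _) : Subgroup
      (Matrix.ProjectiveSpecialLinearGroup (Fin n) F)) ↔ x ∈ (S : Subgroup _) := by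
    intro x
    rw [Sylow.coe_subgroup_smul, Subgroup.mem_pointwise_smul_iff_inv_smul_mem]
    have : (MulAut.conj g)⁻¹ • (g * x * g⁻¹) = x := (MulAut.conj g).symm_apply_apply x
    rw [this]
  refine ⟨g, fun h hh => ⟨g⁻¹ * α h * g, ?_, by group⟩⟩
  obtain ⟨s, hs⟩ := pr_surjective (g⁻¹ * α h * g)
  rw [← hs]
  apply mem_flg.2
  apply mem_slp_of_normalizes
  intro u hu
  rw [← hS]
  have hu1 : pr u ∈ (S : Subgroup _) := by
    rw [hS]
    exact ⟨u, hu, rfl⟩
  have hu2 : g * pr u * g⁻¹ ∈ ((α • S : Sylow r _) : Subgroup _) := by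
    rw [← hg, hmem']
    exact hu1
  obtain ⟨w, hw⟩ : ∃ w, α w = g * pr u * g⁻¹ := α.surjective _
  rw [← hw, hmem, hS] at hu2
  obtain ⟨v, hv, rfl⟩ := hu2
  obtain ⟨b, hb, rfl⟩ := hh
  have h3 : pr (b * v * b⁻¹) ∈ (S : Subgroup _) := by
    rw [hS]
    exact ⟨_, conj_mem_upper hb hv, rfl⟩
  rw [← hmem', hg]
  have h4 : g * pr (s * u * s⁻¹) * g⁻¹ = α (pr (b * v * b⁻¹)) := by
    rw [map_mul pr, map_mul pr, map_inv, hs, map_mul pr, map_mul pr, map_mul α, map_mul α, hw, map_inv, map_inv]
    group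
  rw [h4, hmem]
  exact h3

theorem card_upperGL : Nat.card (parabolicGL n F fun _ => 1) =
    (Fintype.card F - 1) ^ n * Fintype.card F ^ (Finset.univ.filter fun p : Fin n × Fin n => p.1 < p.2).card := by
  have h1 : Nat.card (parabolicGL n F fun _ => 1) =
      Nat.card {g : GL (Fin n) F // (g : Matrix (Fin n) (Fin n) F).BlockTriangular (id : Fin n → Fin n)} := by
    refine Nat.card_congr (Equiv.subtypeEquivRight fun g => ?_)
    rw [mem_upperGL]
    exact ⟨fun h i j hij => h i j hij, fun h i j hij => h hij⟩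
  rw [h1, card_blockTriangular (id : Fin n → Fin n)]
  congr 1
  have h2 : ∀ k : Fin n, Nat.card (GL {i : Fin n // id i = k} F) = Fintype.card F - 1 := by
    intro k
    rw [card_GL_congr F (m := 1) (by
      rw [Fintype.card_eq_one_iff]
      exact ⟨⟨k, rfl⟩, fun x => Subtype.ext x.2⟩)]
    simp
  rw [Finset.prod_congr rfl fun k _ => h2 k, Finset.prod_const, Finset.card_univ, Fintype.card_fin]

/-- **The index of the Borel subgroup.** -/
theorem dvd_index_bor {p : ℕ} [hp : Fact p.Prime] (hpF : (p : F) ≠ 0) (hp1 : ¬ p ∣ Fintype.card F - 1)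
    (hd : p ∣ Nat.card (ProjectiveSpecialLinearGroup (Fin n) F)) : p ∣ (bor n F).index := by
  have h1 : Nat.card (bor n F) ∣ Nat.card (slp n F fun _ => 1) := Subgroup.card_map_dvd _ _
  have h2 : Nat.card (slp n F fun _ => 1) ∣ Nat.card (parabolicGL n F fun _ => 1) := by
    refine Subgroup.card_dvd_of_injective
      ((SpecialLinearGroup.toGL.comp (slp n F fun _ => 1).subtype).codRestrict (parabolicGL n F fun _ => 1)
        (fun x => x.2)) ?_
    intro x y hxy
    apply Subtype.ext
    apply SpecialLinearGroup.toGL_injective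
    exact congrArg Subtype.val hxy
  have h3 : ¬ p ∣ Nat.card (bor n F) := by
    intro h
    have h4 := (h.trans h1).trans h2
    rw [card_upperGL] at h4
    rcases (hp.out.dvd_mul).1 h4 with h5 | h5
    · exact hp1 (hp.out.dvd_of_dvd_pow h5)
    · have h6 := hp.out.dvd_of_dvd_pow h5
      obtain ⟨r, hr⟩ := CharP.exists F
      obtain ⟨k, hrp, hk⟩ := FiniteField.card F r
      rw [hk] at h6
      have h7 := hp.out.dvd_of_dvd_pow h6
      rw [(Nat.prime_dvd_prime_iff_eq hp.out hrp).1 h7] at hpF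
      exact hpF (CharP.cast_eq_zero F r)
  rw [← Subgroup.index_mul_card (bor n F)] at hd
  exact ((hp.out.dvd_mul).1 hd).resolve_right h3

end

end Cfsg.Agent.H583.BR
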