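import Cfsg.Agent.H883.BR.Fam

/-!
# HUB BR (S5715, S5716), [BR-G2] (helper583, task 5863)

* `adjoin_eq_top_of_irr` : Burnside's theorem over an algebraically closed field;
* `trn_of_irr` : the trace of a nontrivial irreducible representation generated by one-parameter subgroups is not constant
  up to `dim`-th roots of unity.
-/

set_option autoImplicit false

namespace Cfsg.Agent.H583.BR.Trn

open Cfsg.Agent.H883.BR

universe u v w

/-- Burnside's theorem -/
theorem adjoin_eq_top_of_irr {K : Type u} [Field K] [IsAlgClosed K] {G : Type w} [Group G] {W : Type v}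
    [AddCommGroup W] [Module K W] [FiniteDimensional K W] {σ : G →* Module.End K W} (hirr : Irr σ ⊤) :
    Algebra.adjoin K (Set.range σ) = ⊤ := by
  classical
  obtain ⟨hV, hW⟩ := hirr
  set A : Subalgebra K (Module.End K W) := Algebra.adjoin K (Set.range σ) with hA
  have hmem : ∀ g, σ g ∈ A := fun g => Algebra.subset_adjoin ⟨g, rfl⟩
  have hsimple : IsSimpleModule A W := by
    refine { exists_pair_ne := ⟨⊥, ⊤, bot_ne_top⟩, eq_bot_or_eq_top := fun U => ?_ }
    rcases hW (U.restrictScalars K) (fun g _ v hv => U.smul_mem ⟨σ g, hmem g⟩ hv) with h | h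
    · left
      exact (Submodule.restrictScalars_eq_bot_iff K A W).1 h
    · right
      exact (Submodule.restrictScalars_eq_top_iff K A W).1 h
  rw [eq_top_iff]
  rintro a -
  have hsc := (IsSimpleModule.algebraMap_end_bijective_of_isAlgClosed (A := A) (V := W) K).2
  let f : Module.End (Module.End A W) W :=
    { toFun := a
      map_add' := map_add a
      map_smul' := by
        intro φ v
        obtain ⟨c, rfl⟩ := hsc φ
        show a ((algebraMap K (Module.End A W) c) v) = (algebraMap K (Module.End A W) c) (a v)
        rw [Module.algebraMap_end_apply, Module.algebraMap_end_apply, map_smul] }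
  let b := Module.finBasis K W
  obtain ⟨r, hr⟩ := jacobson_density f (Finset.univ.image b)
  have : a = (r : Module.End K W) := by
    apply b.ext
    intro i
    exact hr (b i) (Finset.mem_image_of_mem _ (Finset.mem_univ _))
  rw [this]
  exact r.2

/-- the trace form is nondegenerate -/
theorem eq_zero_of_trace {K : Type u} [Field K] {W : Type v} [AddCommGroup W] [Module K W] [FiniteDimensional K W]
    {Y : Module.End K W} (h : ∀ X : Module.End K W, LinearMap.trace K W (X * Y) = 0) : Y = 0 := by
  by_contra hne
  obtain ⟨w, hw⟩ : ∃ w, Y w ≠ 0 := by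
    by_contra hcon
    push Not at hcon
    exact hne (LinearMap.ext hcon)
  obtain ⟨f, hf⟩ := Module.Projective.exists_dual_ne_zero K hw
  apply hf
  have h1 := h (LinearMap.smulRight f w)
  have h2 : LinearMap.smulRight f w * Y = LinearMap.smulRight (f ∘ₗ Y) w := by
    ext v
    rfl
  rw [h2, LinearMap.trace_smulRight] at h1
  exact h1

open Polynomial in
/-- [BR-G2] -/
theorem trn_of_irr {K : Type u} [Field K] [IsAlgClosed K] {G : Type w} [Group G] {W : Type v} [AddCommGroup W]
    [Module K W] [FiniteDimensional K W] {σ : G →* Module.End K W} {F : Subfield K} [Finite F] {ι : Type*}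
    {x : ι → F → G} (hirr : Irr σ ⊤) (hx : OneP F x) {e : ℕ} (hp : PolyDeg σ F x e)
    (hq : e * Module.finrank K W < Nat.card F) (hne : ∃ g, σ g ≠ 1) :
    ∃ g h : G, (LinearMap.trace K W (σ g)) ^ Module.finrank K W ≠
      (LinearMap.trace K W (σ h)) ^ Module.finrank K W := by
  classical
  have := Fintype.ofFinite F
  by_contra hcon
  push Not at hcon
  have hnt : Nontrivial W := hirr.1
  have hN : 0 < Module.finrank K W := Module.finrank_pos
  -- invariance under the root groups
  have step : ∀ i t g, LinearMap.trace K W (σ (g * x i t)) = LinearMap.trace K W (σ g) := by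
    intro i t g
    obtain ⟨c, hc⟩ := hp i
    obtain ⟨P, hPd⟩ : ∃ P : K[X], P = ∑ j ∈ Finset.range (e + 1), C (LinearMap.trace K W (σ g * c j)) * X ^ j :=
      ⟨_, rfl⟩
    have hP : ∀ t : F, P.eval (t : K) = LinearMap.trace K W (σ (g * x i t)) := by
      intro t
      rw [hPd, eval_finsetSum, map_mul, hc, Finset.mul_sum, map_sum]
      refine Finset.sum_congr rfl fun j _ => ?_
      rw [eval_mul, eval_C, eval_pow, eval_X, mul_smul_comm, map_smul, smul_eq_mul, mul_comm]
    have hdeg : P.natDegree ≤ e := by
      rw [hPd]
      refine natDegree_sum_le_of_forall_le _ _ fun j hj => ?_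
      exact (natDegree_C_mul_X_pow_le _ _).trans (Nat.lt_succ_iff.1 (Finset.mem_range.1 hj))
    have hconst : P ^ Module.finrank K W - C (LinearMap.trace K W (σ g) ^ Module.finrank K W) = 0 := by
      refine eq_zero_of_natDegree_lt_card_of_eval_eq_zero _ (f := fun t : F => (t : K)) Subtype.val_injective
        (fun t => ?_) ?_
      · rw [eval_sub, eval_pow, eval_C, hP, hcon (g * x i t) g, sub_self]
      · rw [← Nat.card_eq_fintype_card]
        refine lt_of_le_of_lt (natDegree_sub_le _ _) (lt_of_le_of_lt ?_ hq)
        rw [natDegree_pow, natDegree_C, max_eq_left (Nat.zero_le _), mul_comm]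
        exact Nat.mul_le_mul_right _ hdeg
    have h0 : P.natDegree = 0 := by
      have h1 := congrArg natDegree (sub_eq_zero.1 hconst)
      rw [natDegree_pow, natDegree_C] at h1
      exact (Nat.mul_eq_zero.1 h1).resolve_left hN.ne'
    have h1 : P.eval (t : K) = P.eval ((0 : F) : K) := by
      rw [eq_C_of_natDegree_eq_zero h0, eval_C, eval_C]
    have hx0 : x i 0 = 1 := by
      have h2 := hx.add i 0 0
      rw [add_zero] at h2
      exact left_eq_mul.1 h2
    rw [hP, hP, hx0, mul_one] at h1
    exact h1
  -- the subgroup of translations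
  let T : Subgroup G :=
    { carrier := {h | ∀ g, LinearMap.trace K W (σ (g * h)) = LinearMap.trace K W (σ g)}
      one_mem' := fun g => by rw [mul_one]
      mul_mem' := fun {a b} ha hb g => by rw [← mul_assoc, hb, ha]
      inv_mem' := fun {a} ha g => by
        have h1 := ha (g * a⁻¹)
        rw [inv_mul_cancel_right] at h1
        exact h1.symm }
  have hT : T = ⊤ := by
    rw [eq_top_iff, ← hx.gen, Subgroup.closure_le]
    rintro _ ⟨i, t, rfl⟩
    exact fun g => step i t g
  obtain ⟨h, hh⟩ := hne
  apply hh
  rw [← sub_eq_zero]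
  apply eq_zero_of_trace
  have hmem : h ∈ T := by rw [hT]; exact Subgroup.mem_top h
  intro X
  have hX : X ∈ Submodule.span K (Set.range σ) := by
    have h1 := adjoin_eq_top_of_irr hirr
    have h2 := Algebra.adjoin_eq_span (R := K) (Set.range σ)
    have h3 : (Submonoid.closure (Set.range σ) : Set (Module.End K W)) = Set.range σ := by
      rw [← MonoidHom.coe_mrange, Submonoid.closure_eq]
    rw [h1, h3] at h2
    rw [← h2]
    exact Submodule.mem_top
  induction hX using Submodule.span_induction with
  | mem X hX =>
    obtain ⟨g, rfl⟩ := hX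
    rw [mul_sub, mul_one, map_sub, ← map_mul, hmem g, sub_self]
  | zero => rw [zero_mul, map_zero]
  | add X Y _ _ hX hY => rw [add_mul, map_add, hX, hY, add_zero]
  | smul c X _ hX => rw [smul_mul_assoc, map_smul, hX, smul_zero]

end Cfsg.Agent.H583.BR.Trn
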